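set_option autoImplicit false
namespace Cfsg.Agent.Lib.Helper6.TCD.J2aL
noncomputable def HL0 (i : Nat) : Nat := Nat.land (Nat.shiftRight 0x911000921000931000911000821000821000821000831000831000841000821000831000821000831000731000711000721000731000741000731000731000741000721000741000731000731000731000741000721000741000731000731000741000611000621000631000631000641000621000641000631000611000631000641000641000631000601000641000611000521000531000531000541000541000531000501000541000531000511000731000541000521000631000431000441000441000431000411000631000441000421000641000401000531000341000331000531000341000321000541000311000531000431000431000241000221000441000201000431000341000141000331000341000111000331000241000001000221000231000131 (Nat.mul 24 (Nat.land i 1023))) 16777215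
end Cfsg.Agent.Lib.Helper6.TCD.J2aL
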