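set_option autoImplicit false
namespace Cfsg.Agent.Lib.Helper6.TCD.J2aL
noncomputable def HL1 (i : Nat) : Nat := Nat.land (Nat.shiftRight 0x431000511000000000521000611000000000000000431000000000911000731000000000621000821000701000000000000000501000521000000000000000711000000000000000811000631000601000000000701000000000711000000000000000000000711000531000000000611000000000000000000000000000000000611000000000811000721000311000000000911000601000901000000000000000000000811000411000a11000801000000000221000211000801000821000000000411000a01000911000000000301000311000911000131000721000511000921000801000321000611000811000201000711000621000721000401000511000901000501000811000000000001000701000821000421000000000000000000000000000000000000 (Nat.mul 24 (Nat.land i 1023))) 16777215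
end Cfsg.Agent.Lib.Helper6.TCD.J2aL
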