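set_option autoImplicit false
namespace Cfsg.Agent.Lib.Helper6.TCD.J2aL
noncomputable def HL2 (i : Nat) : Nat := Nat.land (Nat.shiftRight 0x511000321000000000000000000000000000000000000000000000411000000000000000000000321000000000411000401000221000000000000000000000000000401000311000000000000000411000301000000000301000000000501000000000000000000000511000231000211000411000000000421000000000121000611000601000311000311000211000101000201000511000521000000000711000111000000000000000001000000000611000000000000000000000000000000000000 (Nat.mul 24 (Nat.land i 1023))) 16777215
end Cfsg.Agent.Lib.Helper6.TCD.J2aL
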