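import Cfsg.Agent.Lib.Helper6.TCD.J2aL.CL0
import Cfsg.Agent.Lib.Helper6.TCD.J2aL.CL1
import Cfsg.Agent.Lib.Helper6.TCD.J2aL.CL2
import Cfsg.Agent.Lib.Helper6.TCD.J2aL.CL3
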